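import Groth.Agent.H0Lib.Group
import Groth.Agent.NormExtLib.Fibre
import Groth.Agent.AbSchLib.Flat
import Groth.Prelude

/-!
# Rigidity of biextensions of abelian schemes
-/

set_option autoImplicit false
set_option backward.isDefEq.respectTransparency false
set_option backward.isDefEq.respectTransparency.types false
set_option linter.style.haveILetI false
set_option maxHeartbeats 1000000

universe u

open CategoryTheory CategoryTheory.Limits MonoidalCategory CartesianMonoidalCategory AlgebraicGeometry Opposite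
open scoped MonObj

noncomputable section

namespace Groth.Agent.BiextRigidLib

variable {S : Scheme.{u}}

theorem geometricallyConnected_of_irreducible {X Y : Scheme.{u}} (f : X ⟶ Y) [GeometricallyIrreducible f] :
    GeometricallyConnected f :=
  ⟨fun K _ y Z a b h => haveI : IrreducibleSpace Z := GeometricallyIrreducible.geometrically_irreducibleSpace y a b h; inferInstance⟩

/-- A map on a product of abelian schemes trivial on one axis and on the other is trivial. -/
theorem eq_one_of_axes (A₁ A₂ A₃ : Over S) [GrpObj A₁] [GrpObj A₂] [GrpObj A₃]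
    [Smooth A₁.hom] [Smooth A₂.hom] [IsProper A₂.hom] [IsSeparated A₃.hom]
    (hA₁ : ∀ s : S, ConnectedSpace ↥(A₁.hom.fiber s)) (hA₂ : ∀ s : S, ConnectedSpace ↥(A₂.hom.fiber s))
    (φ : A₁ ⊗ A₂ ⟶ A₃)
    (h₁ : lift (1 : A₂ ⟶ A₁) (𝟙 A₂) ≫ φ = 1) (h₂ : lift (𝟙 A₁) (1 : A₁ ⟶ A₂) ≫ φ = 1) : φ = 1 := by
  haveI := Groth.Agent.NormExt.geometricallyIrreducible_of_connected_fibres A₁ hA₁
  haveI := Groth.Agent.NormExt.geometricallyIrreducible_of_connected_fibres A₂ hA₂
  haveI := AbSchLib.geometricallyReduced_of_smooth A₂.hom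
  haveI : GeometricallyConnected A₂.hom := geometricallyConnected_of_irreducible _
  haveI : GeometricallyConnected A₁.hom := geometricallyConnected_of_irreducible _
  rw [H0Lib.eq_fst_comp η[A₁] η[A₂] φ η[A₃] (by rw [← Hom.one_def, h₁, Hom.one_def]), ← Hom.one_def, h₂,
    MonObj.comp_one]

variable (K : Precoverage Scheme.{u}) [(QuotSh.J K S).Subcanonical]

theorem rigid (A₁ A₂ A₃ : Over S) [GrpObj A₁] [IsCommMonObj A₁] [Smooth A₁.hom]
    [GrpObj A₂] [IsCommMonObj A₂] [Smooth A₂.hom] [IsProper A₂.hom]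
    [GrpObj A₃] [IsCommMonObj A₃] [IsSeparated A₃.hom]
    (hA₁ : ∀ s : S, ConnectedSpace ↥(A₁.hom.fiber s)) (hA₂ : ∀ s : S, ConnectedSpace ↥(A₂.hom.fiber s))
    (B : Biext (QuotSh.J K S) (CGrpSh.pts K A₁) (CGrpSh.pts K A₂) (CGrpSh.pts K A₃))
    (f : Biext.Hom (QuotSh.J K S) B B) : f = Biext.HomOver.id (QuotSh.J K S) B := by
  -- the difference of `f` and the identity
  have hex : ∀ (T : Over S) (x : B.E.obj.obj (op T)),
      ∃! g : (CGrpSh.pts K A₃).obj.obj (op T), B.act T g x = f.map T x := fun T x =>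
    B.existsUnique_act T x _ (f.πP_map T x).symm (f.πQ_map T x).symm
  choose d hd hduniq using hex
  have d_eq : ∀ (T : Over S) (x y : B.E.obj.obj (op T)), B.πP T x = B.πP T y → B.πQ T x = B.πQ T y →
      d T x = d T y := by
    intro T x y hP hQ
    obtain ⟨g₀, hg₀, -⟩ := B.existsUnique_act T x y hP hQ
    refine (hduniq T x _ ?_).symm
    have h : B.act T g₀ (f.map T x) = f.map T y := by
      rw [← hg₀]
      exact (f.map_act T g₀ x).symm
    have hu := B.existsUnique_act T x (f.map T x) (f.πP_map T x).symm (f.πQ_map T x).symm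
    have e : B.act T g₀ (B.act T (d T y) x) = B.act T g₀ (f.map T x) := by
      rw [h, ← hd T y, ← hg₀, ← B.add_act, ← B.add_act, add_comm]
    have := congrArg (B.act T (-g₀)) e
    rwa [← B.add_act, ← B.add_act, neg_add_cancel, zero_add, ← B.add_act, neg_add_cancel, B.zero_act] at this
  have d_map : ∀ {T T' : Over S} (m : T' ⟶ T) (x : B.E.obj.obj (op T)),
      d T' (B.E.obj.map m.op x) = (CGrpSh.pts K A₃).obj.map m.op (d T x) := by
    intro T T' m x
    refine (hduniq T' _ _ ?_).symm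
    show B.act T' ((CGrpSh.pts K A₃).obj.map m.op (d T x)) _ = _
    rw [← B.act_map, hd, f.map_res]
  have d_add₁ : ∀ (T : Over S) (x z : B.E.obj.obj (op T)) (h : B.πQ T x = B.πQ T z),
      d T (B.add₁ T x z h) = d T x + d T z := by
    intro T x z h
    refine (hduniq T _ _ ?_).symm
    show B.act T (d T x + d T z) _ = _
    rw [f.map_add₁ T x z h, B.add_act]
    have e : B.act T (d T z) (B.add₁ T x z h) = B.add₁ T x (f.map T z) (by rw [f.πQ_map]; exact h) := by
      simp only [← hd T z]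
      rw [B.add₁_comm T x z h, ← B.add₁_act, B.add₁_comm]
    rw [e, ← B.add₁_act]
    simp only [hd]
  have d_add₂ : ∀ (T : Over S) (x z : B.E.obj.obj (op T)) (h : B.πP T x = B.πP T z),
      d T (B.add₂ T x z h) = d T x + d T z := by
    intro T x z h
    refine (hduniq T _ _ ?_).symm
    show B.act T (d T x + d T z) _ = _
    rw [f.map_add₂ T x z h, B.add_act]
    have e : B.act T (d T z) (B.add₂ T x z h) = B.add₂ T x (f.map T z) (by rw [f.πP_map]; exact h) := by
      simp only [← hd T z]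
      rw [B.add₂_comm T x z h, ← B.add₂_act, B.add₂_comm]
    rw [e, ← B.add₂_act]
    simp only [hd]
  have d_zero₁ : ∀ (T : Over S) (x : B.E.obj.obj (op T)), B.πP T x = 0 → d T x = 0 := by
    intro T x h
    have e := d_add₁ T x x rfl
    rw [d_eq T (B.add₁ T x x rfl) x (by rw [B.πP_add₁, h, add_zero]) (B.πQ_add₁ T x x rfl)] at e
    simpa using e
  have d_zero₂ : ∀ (T : Over S) (x : B.E.obj.obj (op T)), B.πQ T x = 0 → d T x = 0 := by
    intro T x h
    have e := d_add₂ T x x rfl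
    rw [d_eq T (B.add₂ T x x rfl) x (B.πP_add₂ T x x rfl) (by rw [B.πQ_add₂, h, add_zero])] at e
    simpa using e
  -- descend to the product
  let dv : ∀ (T : Over S), B.E.obj.obj (op T) → (T ⟶ A₃) := fun T x => (d T x).down.toMul
  have dv_map : ∀ {T T' : Over S} (m : T' ⟶ T) (x : B.E.obj.obj (op T)),
      dv T' (B.E.obj.map m.op x) = m ≫ dv T x := fun m x => by
    show (d _ (B.E.obj.map m.op x)).down.toMul = _
    rw [d_map]
    rfl
  let P₀ : (CGrpSh.pts K A₁).obj.obj (op (A₁ ⊗ A₂)) := ULift.up (Additive.ofMul (fst A₁ A₂))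
  let Q₀ : (CGrpSh.pts K A₂).obj.obj (op (A₁ ⊗ A₂)) := ULift.up (Additive.ofMul (snd A₁ A₂))
  obtain ⟨R, hR, hlift⟩ := B.locallySurjective (A₁ ⊗ A₂) P₀ Q₀
  choose xs hxP hxQ using hlift
  have hsheaf : Presieve.IsSheaf (QuotSh.J K S) (yoneda.obj A₃) :=
    GrothendieckTopology.Subcanonical.isSheaf_of_isRepresentable (yoneda.obj A₃)
  let fam : Presieve.FamilyOfElements (yoneda.obj A₃) R.arrows := fun T' m hm => dv T' (xs m hm)
  have hfam : fam.Compatible := by
    intro Y₁ Y₂ Z g₁ g₂ f₁ f₂ hf₁ hf₂ hcomm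
    show g₁ ≫ dv _ _ = g₂ ≫ dv _ _
    rw [← dv_map, ← dv_map]
    refine congrArg (fun t => Additive.toMul (ULift.down t)) (d_eq Z _ _ ?_ ?_)
    · rw [B.πP_map, B.πP_map, hxP, hxP, ← ConcreteCategory.comp_apply, ← ConcreteCategory.comp_apply,
        ← Functor.map_comp, ← Functor.map_comp, ← op_comp, ← op_comp, hcomm]
    · rw [B.πQ_map, B.πQ_map, hxQ, hxQ, ← ConcreteCategory.comp_apply, ← ConcreteCategory.comp_apply,
        ← Functor.map_comp, ← Functor.map_comp, ← op_comp, ← op_comp, hcomm]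
  obtain ⟨φ, hφ, -⟩ := hsheaf R hR fam hfam
  have key : ∀ (T : Over S) (x : B.E.obj.obj (op T)),
      dv T x = lift (B.πP T x).down.toMul (B.πQ T x).down.toMul ≫ φ := by
    intro T x
    refine (hsheaf (R.pullback (lift (B.πP T x).down.toMul (B.πQ T x).down.toMul))
      ((QuotSh.J K S).pullback_stable _ hR)).isSeparatedFor.ext fun Y m hm => ?_
    show m ≫ dv T x = m ≫ _ ≫ φ
    rw [← Category.assoc]
    refine Eq.trans ?_ (hφ _ hm).symm
    rw [← dv_map]
    refine congrArg (fun t => Additive.toMul (ULift.down t)) (d_eq Y _ _ ?_ ?_)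
    · rw [B.πP_map, hxP]
      apply ULift.ext
      show Additive.ofMul (m ≫ (B.πP T x).down.toMul) = Additive.ofMul ((m ≫ _) ≫ fst A₁ A₂)
      rw [Category.assoc, lift_fst]
    · rw [B.πQ_map, hxQ]
      apply ULift.ext
      show Additive.ofMul (m ≫ (B.πQ T x).down.toMul) = Additive.ofMul ((m ≫ _) ≫ snd A₁ A₂)
      rw [Category.assoc, lift_snd]
  have ax₁ : lift (1 : A₂ ⟶ A₁) (𝟙 A₂) ≫ φ = 1 := by
    refine (hsheaf (R.pullback (lift (1 : A₂ ⟶ A₁) (𝟙 A₂)))
      ((QuotSh.J K S).pullback_stable _ hR)).isSeparatedFor.ext fun Y m hm => ?_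
    show m ≫ _ ≫ φ = m ≫ (1 : A₂ ⟶ A₃)
    rw [← Category.assoc, MonObj.comp_one]
    refine (hφ _ hm).trans ?_
    refine congrArg (fun t => Additive.toMul (ULift.down t)) (d_zero₁ Y _ ?_)
    rw [hxP]
    apply ULift.ext
    show Additive.ofMul ((m ≫ _) ≫ fst A₁ A₂) = Additive.ofMul (1 : Y ⟶ A₁)
    rw [Category.assoc, lift_fst, MonObj.comp_one]
  have ax₂ : lift (𝟙 A₁) (1 : A₁ ⟶ A₂) ≫ φ = 1 := by
    refine (hsheaf (R.pullback (lift (𝟙 A₁) (1 : A₁ ⟶ A₂)))
      ((QuotSh.J K S).pullback_stable _ hR)).isSeparatedFor.ext fun Y m hm => ?_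
    show m ≫ _ ≫ φ = m ≫ (1 : A₁ ⟶ A₃)
    rw [← Category.assoc, MonObj.comp_one]
    refine (hφ _ hm).trans ?_
    refine congrArg (fun t => Additive.toMul (ULift.down t)) (d_zero₂ Y _ ?_)
    rw [hxQ]
    apply ULift.ext
    show Additive.ofMul ((m ≫ _) ≫ snd A₁ A₂) = Additive.ofMul (1 : Y ⟶ A₂)
    rw [Category.assoc, lift_snd, MonObj.comp_one]
  have hφ1 := eq_one_of_axes A₁ A₂ A₃ hA₁ hA₂ φ ax₁ ax₂
  refine Biext.HomOver.ext' (QuotSh.J K S) fun T x => ?_
  have h0 : d T x = 0 := by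
    apply ULift.ext
    show Additive.ofMul (dv T x) = Additive.ofMul (1 : T ⟶ A₃)
    rw [key, hφ1, MonObj.comp_one]
  rw [← hd T x, h0, B.zero_act]
  rfl

end Groth.Agent.BiextRigidLib

end
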